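import Cfsg.Agent.Lib.SpOTensor.NoRadCase
import Cfsg.Agent.Lib.SpOTensor.Root
import Cfsg.Agent.Lib.MaxClass.SympTensorPlus
import Cfsg.Agent.Lib.TensorMax.Orbit

/-!
The threefold tensor power of a symplectic plane, written as pairs of two-by-two arrays: pure tensors and
the maps permuting the three factors.
-/

set_option autoImplicit false
set_option linter.unusedSectionVars false

namespace Cfsg.Agent.Lib.SpTensorCube

open Module Cfsg.Agent.Lib Cfsg.Agent.Lib.SpOTensor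

variable {F : Type*} [Field F]

/-- The four-dimensional factor. -/
abbrev U4 (F : Type*) := Fin 2 × Fin 2 → F

/-- The plane. -/
abbrev V2 (F : Type*) := Fin 2 → F

/-- The form `J ⊗ J`. -/
def bil (F : Type*) [Field F] : LinearMap.BilinForm F (U4 F) :=
  Matrix.toBilin' (Matrix.kroneckerMap (· * ·) (MaxClass.SympTensorPlus.jTwo F) (MaxClass.SympTensorPlus.jTwo F))

theorem bil_apply (x y : U4 F) :
    bil F x y = x (0, 0) * y (1, 1) - x (0, 1) * y (1, 0) - x (1, 0) * y (0, 1) + x (1, 1) * y (0, 0) := by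
  simp [bil, Matrix.toBilin'_apply, Fintype.sum_prod_type, Fin.sum_univ_two, MaxClass.SympTensorPlus.jTwo]
  ring

theorem bil_symm (x y : U4 F) : bil F x y = bil F y x := by
  rw [bil_apply, bil_apply]; ring

/-- The alternating form of the plane. -/
def jf (a b : V2 F) : F := a 0 * b 1 - a 1 * b 0

/-- The pure tensor. -/
def ten (x : Fin 3 → V2 F) : U4 F × U4 F :=
  (fun p => x 0 0 * (x 1 p.1 * x 2 p.2), fun p => x 0 1 * (x 1 p.1 * x 2 p.2))

theorem om_ten (x y : Fin 3 → V2 F) : om (bil F) (ten x) (ten y) = ∏ i, jf (x i) (y i) := by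
  simp only [om, ten, bil_apply, Fin.prod_univ_three, jf]
  ring

/-- The coordinate tensors. -/
def tidx (a : Fin 2) (p : Fin 2 × Fin 2) : Fin 3 → V2 F :=
  ![Pi.single a 1, Pi.single p.1 1, Pi.single p.2 1]

theorem expand (z : U4 F × U4 F) :
    z = ∑ p : Fin 2 × Fin 2, (z.1 p • ten (tidx 0 p) + z.2 p • ten (tidx 1 p)) := by
  refine Prod.ext (funext fun q => ?_) (funext fun q => ?_) <;> obtain ⟨i, j⟩ := q <;>
    fin_cases i <;> fin_cases j <;> simp [ten, tidx, Fintype.sum_prod_type, Fin.sum_univ_two]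

theorem ext_ten {W : Type*} [AddCommGroup W] [Module F W] {f g : U4 F × U4 F →ₗ[F] W}
    (h : ∀ x, f (ten x) = g (ten x)) : f = g := by
  refine LinearMap.ext fun z => ?_
  rw [expand z, map_sum, map_sum]
  exact Finset.sum_congr rfl fun p _ => by rw [map_add, map_add, map_smul, map_smul, map_smul, map_smul, h, h]

theorem gl_ext_ten {g h : (U4 F × U4 F) ≃ₗ[F] (U4 F × U4 F)} (e : ∀ x, g (ten x) = h (ten x)) : g = h :=
  LinearEquiv.toLinearMap_injective (ext_ten e)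

theorem ten_mem_range {k : U4 F × U4 F →ₗ[F] U4 F × U4 F} {W : Submodule F (U4 F × U4 F)}
    (h : ∀ x, k (ten x) ∈ W) (z : U4 F × U4 F) : k z ∈ W := by
  rw [expand z, map_sum]
  exact Submodule.sum_mem _ fun p _ => by
    rw [map_add, map_smul, map_smul]
    exact W.add_mem (W.smul_mem _ (h _)) (W.smul_mem _ (h _))

theorem ten_smul_update (x : Fin 3 → V2 F) (i : Fin 3) (c : F) :
    ten (Function.update x i (c • x i)) = c • ten x := by
  refine Prod.ext (funext fun p => ?_) (funext fun p => ?_) <;> fin_cases i <;>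
    simp [ten, Function.update] <;> ring

theorem ten_smul (x : Fin 3 → V2 F) (c : Fin 3 → F) : ten (fun i => c i • x i) = (∏ i, c i) • ten x := by
  refine Prod.ext (funext fun p => ?_) (funext fun p => ?_) <;>
    simp [ten, Fin.prod_univ_three] <;> ring

theorem ten_update_add (x : Fin 3 → V2 F) (i : Fin 3) (a b : V2 F) :
    ten (Function.update x i (a + b)) = ten (Function.update x i a) + ten (Function.update x i b) := by
  refine Prod.ext (funext fun p => ?_) (funext fun p => ?_) <;> fin_cases i <;>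
    simp [ten, Function.update] <;> ring

/-- Contraction by three functionals. -/
def ev (φ : Fin 3 → V2 F) : U4 F × U4 F →ₗ[F] F where
  toFun z := ∑ p : Fin 2 × Fin 2, (φ 0 0 * z.1 p + φ 0 1 * z.2 p) * (φ 1 p.1 * φ 2 p.2)
  map_add' z w := by
    rw [← Finset.sum_add_distrib]
    exact Finset.sum_congr rfl fun p _ => by simp only [Prod.fst_add, Prod.snd_add, Pi.add_apply]; ring
  map_smul' c z := by
    rw [RingHom.id_apply, smul_eq_mul, Finset.mul_sum]
    exact Finset.sum_congr rfl fun p _ => by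
      simp only [Prod.smul_fst, Prod.smul_snd, Pi.smul_apply, smul_eq_mul]; ring

theorem ev_ten (φ x : Fin 3 → V2 F) : ev φ (ten x) = ∏ i, φ i ⬝ᵥ x i := by
  simp [ev, ten, Fintype.sum_prod_type, Fin.sum_univ_two, Fin.prod_univ_three, dotProduct]
  ring

/-- The map permutes the factors by `π`. -/
def HasPerm (π : Equiv.Perm (Fin 3)) (g : (U4 F × U4 F) ≃ₗ[F] (U4 F × U4 F)) : Prop :=
  ∃ A : Fin 3 → (V2 F ≃ₗ[F] V2 F), ∀ x, g (ten x) = ten fun i => A i (x (π i))

theorem hasPerm_one : HasPerm 1 (1 : (U4 F × U4 F) ≃ₗ[F] (U4 F × U4 F)) :=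
  ⟨fun _ => LinearEquiv.refl F _, fun _ => rfl⟩

theorem HasPerm.mul {π τ : Equiv.Perm (Fin 3)} {g h : (U4 F × U4 F) ≃ₗ[F] (U4 F × U4 F)}
    (hg : HasPerm π g) (hh : HasPerm τ h) : HasPerm (τ * π) (g * h) := by
  obtain ⟨A, hA⟩ := hg
  obtain ⟨B, hB⟩ := hh
  exact ⟨fun i => (B (π i)).trans (A i), fun x => by rw [LinearEquiv.mul_apply, hB, hA]; rfl⟩

theorem HasPerm.inv {π : Equiv.Perm (Fin 3)} {g : (U4 F × U4 F) ≃ₗ[F] (U4 F × U4 F)}
    (hg : HasPerm π g) : HasPerm π⁻¹ g⁻¹ := by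
  obtain ⟨A, hA⟩ := hg
  refine ⟨fun i => (A (π⁻¹ i)).symm, fun x => ?_⟩
  apply g.injective
  rw [hA, show g (g⁻¹ (ten x)) = ten x from g.apply_symm_apply _]
  congr 1
  funext i
  simp

/-- The elements permuting the factors. -/
def wr (F : Type*) [Field F] : Subgroup ((U4 F × U4 F) ≃ₗ[F] (U4 F × U4 F)) where
  carrier := {g | ∃ π, HasPerm π g}
  one_mem' := ⟨_, hasPerm_one⟩
  mul_mem' := fun ⟨_, h₁⟩ ⟨_, h₂⟩ => ⟨_, h₁.mul h₂⟩
  inv_mem' := fun ⟨_, h⟩ => ⟨_, h.inv⟩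

/-- The elements of `wr` with even permutation. -/
def wrEven (F : Type*) [Field F] : Subgroup ((U4 F × U4 F) ≃ₗ[F] (U4 F × U4 F)) where
  carrier := {g | ∃ π : Equiv.Perm (Fin 3), Equiv.Perm.sign π = 1 ∧ HasPerm π g}
  one_mem' := ⟨1, map_one _, hasPerm_one⟩
  mul_mem' := fun ⟨π, hπ, h₁⟩ ⟨τ, hτ, h₂⟩ => ⟨τ * π, by rw [map_mul, hπ, hτ, one_mul], h₁.mul h₂⟩
  inv_mem' := fun ⟨π, hπ, h⟩ => ⟨π⁻¹, by rw [map_inv, hπ, inv_one], h.inv⟩

theorem commutator_wr {g h : (U4 F × U4 F) ≃ₗ[F] (U4 F × U4 F)} (hg : g ∈ wr F) (hh : h ∈ wr F) :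
    g * h * g⁻¹ * h⁻¹ ∈ wrEven F := by
  obtain ⟨π, hπ⟩ := hg
  obtain ⟨τ, hτ⟩ := hh
  refine ⟨_, ?_, ((hπ.mul hτ).mul hπ.inv).mul hτ.inv⟩
  simp only [map_mul, map_inv]
  rcases Int.units_eq_one_or (Equiv.Perm.sign π) with e | e <;>
    rcases Int.units_eq_one_or (Equiv.Perm.sign τ) with e' | e' <;> simp [e, e']

theorem commutator_wrEven {g h : (U4 F × U4 F) ≃ₗ[F] (U4 F × U4 F)} (hg : g ∈ wrEven F) (hh : h ∈ wrEven F) :
    HasPerm 1 (g * h * g⁻¹ * h⁻¹) := by
  obtain ⟨π, hπ, hgπ⟩ := hg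
  obtain ⟨τ, hτ, hhτ⟩ := hh
  have key : ∀ a b : Equiv.Perm (Fin 3), Equiv.Perm.sign a = 1 → Equiv.Perm.sign b = 1 →
      b⁻¹ * (a⁻¹ * (b * a)) = 1 := by decide
  exact key π τ hπ hτ ▸ ((hgπ.mul hhτ).mul hgπ.inv).mul hhτ.inv

/-- A pure element with square-zero displacement moves one factor only. -/
theorem exists_one_slot {y : (U4 F × U4 F) ≃ₗ[F] (U4 F × U4 F)} (h2 : (2 : F) ≠ 0) (hy : HasPerm 1 y)
    (hy1 : y ≠ 1) (hsq : ∀ z, y (y z) + z = (2 : F) • y z) :
    ∃ (i : Fin 3) (N : V2 F →ₗ[F] V2 F) (b : V2 F), b ≠ 0 ∧ (∀ v, N v ∈ F ∙ b) ∧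
      ∀ x, y (ten x) - ten x = ten (Function.update x i (N (x i))) := by
  obtain ⟨A, hA⟩ := hy
  have hA' : ∀ x, y (ten x) = ten fun i => A i (x i) := hA
  have hline : ∀ {w v : V2 F}, w ≠ 0 → (∀ φ : V2 F, φ ⬝ᵥ w = 1 → φ ⬝ᵥ v = 0) → v = 0 := by
    intro w v hw h
    obtain ⟨φ, hφ⟩ := TensorMax.exists_dot_one hw
    rw [dotProduct_comm] at hφ
    refine dotProduct_eq_zero _ fun ψ => ?_
    have h1 := h (φ + (ψ - (ψ ⬝ᵥ w) • φ)) (by simp [add_dotProduct, sub_dotProduct, smul_dotProduct, hφ])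
    rw [add_dotProduct, h φ hφ, zero_add, sub_dotProduct, smul_dotProduct, h φ hφ, smul_zero, sub_zero] at h1
    rw [dotProduct_comm]; exact h1
  have hev : ∀ x φ : Fin 3 → V2 F, (∏ i, φ i ⬝ᵥ A i (A i (x i))) + ∏ i, φ i ⬝ᵥ x i =
      2 * ∏ i, φ i ⬝ᵥ A i (x i) := by
    intro x φ
    have h := congrArg (ev φ) (hsq (ten x))
    rwa [hA', hA', map_add, map_smul, ev_ten, ev_ten, ev_ten, smul_eq_mul] at h
  -- at most one factor is not scalar
  have htwo : ∀ i j k : Fin 3, i ≠ j → i ≠ k → j ≠ k → ∀ xi xj : V2 F,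
      A i xi ∉ F ∙ xi → A j xj ∉ F ∙ xj → False := by
    intro i j k hij hik hjk xi xj hi hj
    have hxk : (Pi.single 0 1 : V2 F) ≠ 0 := by simp
    obtain ⟨x, hxi, hxj, hxk'⟩ : ∃ x : Fin 3 → V2 F, x i = xi ∧ x j = xj ∧ x k = Pi.single 0 1 :=
      ⟨Function.update (Function.update (fun _ => Pi.single 0 1) i xi) j xj, by simp [hij], by simp,
        by simp [hik.symm, hjk.symm]⟩
    have hb : ∀ {w w' : V2 F}, w ≠ 0 → w' ∉ F ∙ w → ∀ s t : F, ∃ φ : V2 F, φ ⬝ᵥ w = s ∧ φ ⬝ᵥ w' = t := by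
      intro w w' hw h s t
      obtain ⟨α, hα0, hα1⟩ := TensorMax.exists_sep h
      obtain ⟨γ, hγ0, hγ1⟩ := TensorMax.exists_sep (show w ∉ F ∙ w' from fun hm => by
        obtain ⟨r, hr⟩ := Submodule.mem_span_singleton.1 hm
        have hr0 : r ≠ 0 := fun e => hw (by rw [← hr, e, zero_smul])
        exact h (Submodule.mem_span_singleton.2 ⟨r⁻¹, by rw [← hr, smul_smul, inv_mul_cancel₀ hr0, one_smul]⟩))
      have e1 : α ⬝ᵥ w = 0 := (dotProduct_comm _ _).trans (hα0 w (Submodule.mem_span_singleton_self w))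
      have e2 : γ ⬝ᵥ w' = 0 := (dotProduct_comm _ _).trans (hγ0 w' (Submodule.mem_span_singleton_self w'))
      have e3 : α ⬝ᵥ w' = 1 := (dotProduct_comm _ _).trans hα1
      have e4 : γ ⬝ᵥ w = 1 := (dotProduct_comm _ _).trans hγ1
      exact ⟨t • α + s • γ, by simp [add_dotProduct, smul_dotProduct, e1, e4],
        by simp [add_dotProduct, smul_dotProduct, e2, e3]⟩
    have hxi0 : xi ≠ 0 := fun e => hi (by rw [e, map_zero]; exact Submodule.zero_mem _)
    have hxj0 : xj ≠ 0 := fun e => hj (by rw [e, map_zero]; exact Submodule.zero_mem _)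
    obtain ⟨φ₁, a1, a2⟩ := hb hxi0 hi 0 1
    obtain ⟨φ₂, b1, b2⟩ := hb hxi0 hi 1 0
    obtain ⟨ψ₁, c1, c2⟩ := hb hxj0 hj 0 1
    obtain ⟨ψ₂, d1, d2⟩ := hb hxj0 hj 1 0
    have huniv : ∀ i j k : Fin 3, i ≠ j → i ≠ k → j ≠ k → (Finset.univ : Finset (Fin 3)) = {i, j, k} := by decide
    have hprod : ∀ f : Fin 3 → F, ∏ l, f l = f i * f j * f k := fun f => by
      rw [huniv i j k hij hik hjk, Finset.prod_insert (by simp [hij, hik]),
        Finset.prod_insert (by simp [hjk]), Finset.prod_singleton, mul_assoc]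
    have e : ∀ φ ψ χ : V2 F, (φ ⬝ᵥ A i (A i xi)) * (ψ ⬝ᵥ A j (A j xj)) * (χ ⬝ᵥ A k (A k (x k))) +
        (φ ⬝ᵥ xi) * (ψ ⬝ᵥ xj) * (χ ⬝ᵥ x k) =
        2 * ((φ ⬝ᵥ A i xi) * (ψ ⬝ᵥ A j xj) * (χ ⬝ᵥ A k (x k))) := by
      intro φ ψ χ
      have h := hev x (Function.update (Function.update (fun _ => χ) i φ) j ψ)
      rw [hprod, hprod, hprod] at h
      simpa [hij, hik.symm, hjk.symm, hxi, hxj] using h
    have h0 : A k (x k) = 0 := hline (w := x k) (hxk' ▸ hxk) fun χ hχ => by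
      have e11 := e φ₁ ψ₁ χ
      have e21 := e φ₂ ψ₁ χ
      have e22 := e φ₂ ψ₂ χ
      simp only [a1, a2, b1, b2, c1, c2, d1, d2, hχ, mul_zero, zero_mul, mul_one, one_mul, add_zero] at e11 e21 e22
      have hne : (φ₂ ⬝ᵥ A i (A i xi)) * (χ ⬝ᵥ A k (A k (x k))) ≠ 0 := fun h0 => by
        refine one_ne_zero (α := F) ?_
        linear_combination e22 - (ψ₂ ⬝ᵥ A j (A j xj)) * h0
      have hq : ψ₁ ⬝ᵥ A j (A j xj) = 0 :=
        (mul_eq_zero.1 (show ((φ₂ ⬝ᵥ A i (A i xi)) * (χ ⬝ᵥ A k (A k (x k)))) * (ψ₁ ⬝ᵥ A j (A j xj)) = 0 by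
          linear_combination e21)).resolve_left hne
      rw [hq, mul_zero, zero_mul] at e11
      exact (mul_eq_zero.1 e11.symm).resolve_left h2
    exact (hxk' ▸ hxk) ((A k).map_eq_zero_iff.1 h0)
  -- the scalar factors
  have hscal : ∀ i, ∀ h : ∀ v, A i v ∈ F ∙ v, ∃ c : F, ∀ v, A i v = c • v := fun i h =>
    TensorMax.exists_scalar_of_eigen (A i).toLinearMap fun v =>
      (Submodule.mem_span_singleton.1 (h v)).imp fun c hc => hc.symm
  obtain ⟨i, hi⟩ : ∃ i, ∀ j, j ≠ i → ∀ v, A j v ∈ F ∙ v := by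
    by_contra hno
    push Not at hno
    obtain ⟨j, -, v, hv⟩ := hno 0
    obtain ⟨j', hj', v', hv'⟩ := hno j
    have hthird : ∀ a b : Fin 3, a ≠ b → ∃ k, a ≠ k ∧ b ≠ k := by decide
    obtain ⟨k, hk, hk'⟩ := hthird j' j hj'
    exact htwo j' j k hj' hk hk' v' v hv' hv
  choose c hc using fun j : {j // j ≠ i} => hscal j.1 (hi j.1 j.2)
  obtain ⟨d, hd⟩ : ∃ d : Fin 3 → F, ∀ j, (j = i → d j = 1) ∧ (j ≠ i → ∀ v, A j v = d j • v) :=
    ⟨fun j => if h : j = i then 1 else c ⟨j, h⟩, fun j => ⟨fun h => by simp [h],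
      fun h v => by simp [h, hc ⟨j, h⟩]⟩⟩
  obtain ⟨κ, hκ⟩ : ∃ κ, κ = ∏ j, d j := ⟨_, rfl⟩
  let B : V2 F →ₗ[F] V2 F := κ • (A i).toLinearMap
  have hy' : ∀ x, y (ten x) = ten (Function.update x i (B (x i))) := by
    intro x
    have e : (fun j => A j (x j)) = fun j => d j • Function.update x i (A i (x i)) j := funext fun j => by
      by_cases h : j = i
      · subst h; simp [(hd j).1 rfl]
      · simp [h, (hd j).2 h]
    have e' := ten_smul_update (Function.update x i (A i (x i))) i κ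
    rw [Function.update_idem, Function.update_self] at e'
    rw [hA', e, ten_smul, ← hκ, ← e']
    rfl
  let N : V2 F →ₗ[F] V2 F := B - LinearMap.id
  have hN : ∀ x, y (ten x) - ten x = ten (Function.update x i (N (x i))) := by
    intro x
    have e := ten_update_add x i (N (x i)) (x i)
    rw [Function.update_eq_self, show N (x i) + x i = B (x i) by simp [N]] at e
    rw [hy', e, add_sub_cancel_right]
  have hNN : ∀ v, N (N v) = 0 := by
    intro v
    refine dotProduct_eq_zero _ fun φ => ?_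
    have hx0 : (Pi.single 0 1 : V2 F) ⬝ᵥ Pi.single 0 1 = 1 := by simp
    have h := congrArg (ev (Function.update (fun _ => Pi.single 0 1) i φ))
      (hsq (ten (Function.update (fun _ => Pi.single 0 1) i v)))
    rw [hy', hy', map_add, map_smul, ev_ten, ev_ten, ev_ten, Function.update_idem, Function.update_self,
      Function.update_self] at h
    have hprod : ∀ w : V2 F, (∏ l, (Function.update (fun _ => Pi.single 0 1) i φ l) ⬝ᵥ
        (Function.update (fun _ => (Pi.single 0 1 : V2 F)) i w l)) = φ ⬝ᵥ w := fun w => by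
      rw [Finset.prod_eq_single i (fun l _ hl => by simp [hl]) (by simp)]
      simp
    simp only [Function.update_idem, hprod, smul_eq_mul] at h
    rw [dotProduct_comm]
    simp only [N, LinearMap.sub_apply, LinearMap.id_apply, map_sub, dotProduct_sub]
    linear_combination h
  obtain ⟨v, hv⟩ : ∃ v, N v ≠ 0 := by
    by_contra hno
    push Not at hno
    refine hy1 (gl_ext_ten fun x => ?_)
    have := hN x
    rw [hno] at this
    rw [← sub_eq_zero]
    show y (ten x) - ten x = 0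
    rw [this, show ten (Function.update x i 0) = (0 : F) • ten x by
      rw [← ten_smul_update x i 0, zero_smul], zero_smul]
  refine ⟨i, N, N v, hv, fun w => ?_, hN⟩
  have hrk : finrank F (LinearMap.range N) ≤ 1 := by
    have h := N.finrank_range_add_finrank_ker
    rw [Module.finrank_fin_fun] at h
    have := Submodule.finrank_mono (show LinearMap.range N ≤ LinearMap.ker N by rintro _ ⟨u, rfl⟩; exact hNN u)
    omega
  have heq : F ∙ N v = LinearMap.range N :=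
    Submodule.eq_of_le_of_finrank_le ((Submodule.span_singleton_le_iff_mem _ _).2 ⟨v, rfl⟩)
      (hrk.trans (finrank_span_singleton hv).ge)
  exact heq ▸ LinearMap.mem_range_self N w

end Cfsg.Agent.Lib.SpTensorCube
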