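import Cfsg.Agent.Lib.SpTensorCube.Slot

/-!
An overgroup of the threefold tensor wreath product without radical elements is the wreath product.
-/

set_option autoImplicit false
set_option linter.unusedSectionVars false

namespace Cfsg.Agent.Lib.SpTensorCube

open Module Cfsg.Agent.Lib Cfsg.Agent.Lib.SpOTensor

variable {F : Type*} [Field F] {M : Subgroup ((U4 F × U4 F) ≃ₗ[F] (U4 F × U4 F))}

/-- The elements all whose conjugates under `M` lie in `H`. -/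
def core (M H : Subgroup ((U4 F × U4 F) ≃ₗ[F] (U4 F × U4 F))) :
    Subgroup ((U4 F × U4 F) ≃ₗ[F] (U4 F × U4 F)) where
  carrier := {x | ∀ g ∈ M, g⁻¹ * x * g ∈ H}
  one_mem' g _ := by rw [mul_one, inv_mul_cancel]; exact H.one_mem
  mul_mem' {x y} hx hy g hg := by
    rw [show g⁻¹ * (x * y) * g = g⁻¹ * x * g * (g⁻¹ * y * g) by group]
    exact H.mul_mem (hx g hg) (hy g hg)
  inv_mem' {x} hx g hg := by
    rw [show g⁻¹ * x⁻¹ * g = (g⁻¹ * x * g)⁻¹ by group]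
    exact H.inv_mem (hx g hg)

theorem conj_mem_core {H : Subgroup ((U4 F × U4 F) ≃ₗ[F] (U4 F × U4 F))}
    {k x : (U4 F × U4 F) ≃ₗ[F] (U4 F × U4 F)} (hk : k ∈ M) (hx : x ∈ core M H) :
    k * x * k⁻¹ ∈ core M H := fun g hg => by
  rw [show g⁻¹ * (k * x * k⁻¹) * g = (k⁻¹ * g)⁻¹ * x * (k⁻¹ * g) by group]
  exact hx _ (M.mul_mem (M.inv_mem hk) hg)

theorem commutator_mem_core {x y : (U4 F × U4 F) ≃ₗ[F] (U4 F × U4 F)} (hx : x ∈ core M (wr F))
    (hy : y ∈ core M (wr F)) : x * y * x⁻¹ * y⁻¹ ∈ core M (wrEven F) := fun g hg => by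
  rw [show g⁻¹ * (x * y * x⁻¹ * y⁻¹) * g =
    (g⁻¹ * x * g) * (g⁻¹ * y * g) * (g⁻¹ * x * g)⁻¹ * (g⁻¹ * y * g)⁻¹ by group]
  exact commutator_wr (hx g hg) (hy g hg)

/-- The upper unitriangular maps of the plane. -/
def upE (s : F) : V2 F ≃ₗ[F] V2 F := slE 1 s 0 1 (by ring)

/-- The lower unitriangular maps of the plane. -/
def loE (s : F) : V2 F ≃ₗ[F] V2 F := slE 1 0 s 1 (by ring)

/-- The diagonal maps of the plane. -/
def diE {t : F} (ht : t ≠ 0) : V2 F ≃ₗ[F] V2 F := slE t 0 0 t⁻¹ (by rw [mul_inv_cancel₀ ht]; ring)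

/-- The rotation of the plane. -/
def roE (F : Type*) [Field F] : V2 F ≃ₗ[F] V2 F := slE 0 1 (-1) 0 (by ring)

theorem roE_conj_upE (a : F) : roE F * upE a * (roE F)⁻¹ = loE (-a) := by
  simp only [roE, upE, loE, slE_inv, slE_mul]
  apply slE_congr <;> ring

theorem diE_eq {t : F} (ht : t ≠ 0) :
    diE ht = upE t * loE (-t⁻¹) * upE t * (upE (-1) * loE 1 * upE (-1)) := by
  simp only [diE, upE, loE, slE_mul]
  apply slE_congr <;> field_simp <;> ring

theorem upE_commutator {t : F} (ht : t ≠ 0) (b : F) :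
    upE (b * (t * t - 1)) = diE ht * upE b * (diE ht)⁻¹ * (upE b)⁻¹ := by
  simp only [diE, upE, slE_inv, slE_mul]
  apply slE_congr <;> field_simp <;> ring

theorem slot0_upE_one : slot0 (upE (1 : F)) = rl (1 : F) :=
  LinearEquiv.ext fun z => Prod.ext (funext fun p => by simp [slot0, upE, slE_apply])
    (funext fun p => by simp [slot0, upE, slE_apply])

variable (S : Setup (bil F) M)
include S

theorem mem_wr_of_stab (hno : NoRad M) {g : (U4 F × U4 F) ≃ₗ[F] (U4 F × U4 F)} (hg : g ∈ M) (hs : Stab g) :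
    g ∈ wr F :=
  mem_wr_of_isKr S.two (S.stab_kr hno hg hs) (S.iso g hg)

theorem mem_wr_of_plane (hno : NoRad M) {g k : (U4 F × U4 F) ≃ₗ[F] (U4 F × U4 F)} (hg : g ∈ M) (hk : k ∈ M)
    (hkw : k ∈ wr F) (h : ∀ u, (k⁻¹ (g (u, 0))).2 = 0) : g ∈ wr F := by
  have := (wr F).mul_mem hkw (mem_wr_of_stab S hno (M.mul_mem (M.inv_mem hk) hg) fun u => h u)
  rwa [mul_inv_cancel_left] at this

/-- A conjugate of a plane commuting with the plane comes from the wreath product. -/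
theorem mem_wr_of_not_far (hN : ∀ g, Iso g → g ∈ wr F → g ∈ M) (hno : NoRad M)
    {g : (U4 F × U4 F) ≃ₗ[F] (U4 F × U4 F)} (hg : g ∈ M) (hfar : ¬ Far g) : g ∈ wr F := by
  simp only [Far, not_forall, not_not] at hfar
  obtain ⟨m, l, hm, hl, hc⟩ := hfar
  rcases S.conj_comm_cases hno hg hm hl hc with hs | ⟨n, hn2, hskew, -, -, himg⟩
  · exact mem_wr_of_stab S hno hg hs
  obtain ⟨b, hb, hR⟩ := exists_line (R := LinearMap.range n) S.two (by
    rintro _ ⟨x, rfl⟩ _ ⟨y, rfl⟩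
    have h := hskew x (n y)
    rwa [hn2, map_zero, add_zero] at h)
  obtain ⟨i, hi⟩ : ∃ i : Fin 3, ∀ v : U4 F × U4 F, v.1 ∈ LinearMap.range n → v.2 ∈ LinearMap.range n →
      ∃ x x' : Fin 3 → V2 F, x i = b ∧ x' i = b ∧ v = ten x + ten x' := by
    rcases hR with hR | hR
    · refine ⟨1, fun v h1 h2 => ?_⟩
      obtain ⟨γ₁, e1⟩ := hR _ h1
      obtain ⟨γ₂, e2⟩ := hR _ h2
      exact ⟨_, _, rfl, rfl, (Prod.ext e1 e2).trans (pair_eq b b ![γ₁, γ₂])⟩
    · refine ⟨2, fun v h1 h2 => ?_⟩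
      obtain ⟨γ₁, e1⟩ := hR _ h1
      obtain ⟨γ₂, e2⟩ := hR _ h2
      exact ⟨_, _, rfl, rfl, (Prod.ext e1 e2).trans (pair_eq γ₁ γ₂ ![b, b])⟩
  obtain ⟨k, hkM, hkw, hk⟩ := exists_to_line hN i hb
  refine mem_wr_of_plane S hno hg hkM hkw fun u => ?_
  obtain ⟨h1, h2⟩ := (himg _).1 ⟨u, rfl⟩
  obtain ⟨x, x', hx, hx', e⟩ := hi _ h1 h2
  rw [e, map_add, Prod.snd_add, hk x (hx ▸ Submodule.mem_span_singleton_self _),
    hk x' (hx' ▸ Submodule.mem_span_singleton_self _), add_zero]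

theorem refl_mem_core (hN : ∀ g, Iso g → g ∈ wr F → g ∈ M) (hno : NoRad M)
    (hno' : ∀ g' ∈ M, Far g' → ∀ T : Submodule F (U4 F), finrank F (U4 F) ≤ finrank F T + 2 →
      ∃ u ∈ T, g' (u, 0) ≠ (u, 0))
    {v : U4 F} (hv : bil F v v ≠ 0) : dia (S.reflE hv) ∈ core M (wr F) := by
  intro g hg
  obtain ⟨g', hg'⟩ : ∃ g', g' = g⁻¹ * dia (S.reflE hv) * g := ⟨_, rfl⟩
  have hM : g' ∈ M := hg' ▸ M.mul_mem (M.mul_mem (M.inv_mem hg) (S.dia_mem (S.reflE_iso hv))) hg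
  let gL : U4 F →ₗ[F] U4 F × U4 F := g.toLinearMap.comp (LinearMap.inl F _ _)
  let L : U4 F →ₗ[F] F × F :=
    ((bil F v).comp ((LinearMap.fst F _ _).comp gL)).prod ((bil F v).comp ((LinearMap.snd F _ _).comp gL))
  rw [← hg']
  refine mem_wr_of_not_far S hN hno hM fun hfar => ?_
  obtain ⟨u, hu, hne⟩ := hno' g' hM hfar (LinearMap.ker L) (by
    have := L.finrank_range_add_finrank_ker
    have := (LinearMap.range L).finrank_le
    rw [Module.finrank_prod, finrank_self] at this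
    omega)
  have hu' : bil F v (g (u, 0)).1 = 0 ∧ bil F v (g (u, 0)).2 = 0 := by
    simpa [L, gL, Prod.ext_iff] using LinearMap.mem_ker.1 hu
  apply hne
  rw [hg', LinearEquiv.mul_apply, LinearEquiv.mul_apply,
    show dia (S.reflE hv) (g (u, 0)) = g (u, 0) by simp [S.reflE_apply, hu'.1, hu'.2]]
  exact g.symm_apply_apply _

/-- Two reflections of the four-dimensional factor shear the two planes together. -/
theorem exists_shear (hrefl : ∀ v (hv : bil F v v ≠ 0), dia (S.reflE hv) ∈ core M (wr F)) (s : F) :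
    ∃ E ∈ core M (wr F), ∀ x, E (ten x) = ten ![x 0, upE s (x 1), loE s (x 2)] := by
  have h2 := S.two
  obtain ⟨v, hvdef⟩ : ∃ v : U4 F, v = fun p => if p.1 = p.2 then 1 else if p.1 = 0 then s else 0 := ⟨_, rfl⟩
  obtain ⟨w, hwdef⟩ : ∃ w : U4 F, w = fun p => if p.1 = p.2 then 1 else 0 := ⟨_, rfl⟩
  have hd : bil F v v = 2 := by rw [bil_apply, hvdef]; simp [one_add_one_eq_two]
  have hd' : bil F w w = 2 := by rw [bil_apply, hwdef]; simp [one_add_one_eq_two]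
  have hv : bil F v v ≠ 0 := hd ▸ h2
  have hw : bil F w w ≠ 0 := hd' ▸ h2
  refine ⟨dia (S.reflE hv) * dia (S.reflE hw), (core M (wr F)).mul_mem (hrefl v hv) (hrefl w hw), fun x => ?_⟩
  have e : ∀ u : U4 F, (2 * bil F v u / bil F v v : F) = bil F v u := fun u => by
    rw [hd, mul_div_cancel_left₀ _ h2]
  have e' : ∀ u : U4 F, (2 * bil F w u / bil F w w : F) = bil F w u := fun u => by
    rw [hd', mul_div_cancel_left₀ _ h2]
  rw [LinearEquiv.mul_apply, dia_apply, dia_apply]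
  simp only [S.reflE_apply, e, e']
  simp only [bil_apply]
  refine Prod.ext (funext fun ⟨i, j⟩ => ?_) (funext fun ⟨i, j⟩ => ?_) <;>
    fin_cases i <;> fin_cases j <;>
    simp [hvdef, hwdef, ten, upE, loE, slE_apply] <;> ring

theorem upper_mem_core (hN : ∀ g, Iso g → g ∈ wr F → g ∈ M)
    (hrefl : ∀ v (hv : bil F v v ≠ 0), dia (S.reflE hv) ∈ core M (wr F))
    {t : F} (ht0 : t ≠ 0) (ht1 : t * t ≠ 1) (s : F) : slot0 (upE s) ∈ core M (wr F) := by
  have htt : t * t - 1 ≠ 0 := sub_ne_zero.2 ht1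
  have h01 := hN _ (s01_iso (F := F)) ⟨_, s01_hasPerm⟩
  have h12 := hN _ (s12_iso (F := F)) ⟨_, s12_hasPerm⟩
  have hD : slot0 (diE ht0) ∈ M := slE_mem hN _ _ _ _ _
  obtain ⟨hC, hhC⟩ : ∃ k, k = s12 F * s01 F * slot0 (diE ht0) * s01 F * s12 F := ⟨_, rfl⟩
  have hCM : hC ∈ M := hhC ▸ M.mul_mem (M.mul_mem (M.mul_mem (M.mul_mem h12 h01) hD) h01) h12
  have hCx : ∀ x, hC (ten x) = ten ![x 0, x 1, diE ht0 (x 2)] := fun x => by
    rw [hhC]
    simp only [LinearEquiv.mul_apply, s12_ten, s01_ten, slot0_ten]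
    congr 1
  have hCi : ∀ x, hC⁻¹ (ten x) = ten ![x 0, x 1, (diE ht0)⁻¹ (x 2)] := fun x => by
    apply hC.injective
    rw [show hC (hC⁻¹ (ten x)) = ten x from hC.apply_symm_apply _, hCx]
    congr 1
    funext i
    fin_cases i
    · rfl
    · rfl
    · exact ((diE ht0).apply_symm_apply _).symm
  obtain ⟨b, hb⟩ : ∃ b, b * (t * t - 1) = s * (t * t) := ⟨s * (t * t) / (t * t - 1), div_mul_cancel₀ _ htt⟩
  obtain ⟨E₁, hE₁, hE₁x⟩ := exists_shear S hrefl (s - b)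
  obtain ⟨E₂, hE₂, hE₂x⟩ := exists_shear S hrefl b
  have hprod : E₁ * (hC * E₂ * hC⁻¹) ∈ core M (wr F) :=
    (core M (wr F)).mul_mem hE₁ (conj_mem_core hCM hE₂)
  have e1 : upE (s - b) * upE b = upE s := by
    simp only [upE, slE_mul]; apply slE_congr <;> ring
  have e2 : loE (s - b) * (diE ht0 * loE b * (diE ht0)⁻¹) = 1 := by
    simp only [diE, loE, slE_inv, slE_mul]
    refine (slE_congr (a' := 1) (b' := 0) (c' := 0) (d' := 1) (h' := by ring) ?_ ?_ ?_ ?_).trans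
      (LinearEquiv.ext fun v => funext fun i => by fin_cases i <;> simp [slE_apply])
    · field_simp; ring
    · ring
    · field_simp; linear_combination (-1 : F) * hb
    · field_simp; ring
  have e : slot0 (upE s) = s01 F * (E₁ * (hC * E₂ * hC⁻¹)) * (s01 F)⁻¹ := by
    rw [eq_mul_inv_iff_mul_eq]
    refine gl_ext_ten fun x => ?_
    simp only [LinearEquiv.mul_apply, slot0_ten, s01_ten, hCi, hE₂x, hCx, hE₁x]
    congr 1
    funext i
    fin_cases i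
    · exact (LinearEquiv.congr_fun e1 (x 1)).symm
    · rfl
    · exact (LinearEquiv.congr_fun e2 (x 2)).symm
  exact e ▸ conj_mem_core h01 hprod

theorem diag_mem (hN : ∀ g, Iso g → g ∈ wr F → g ∈ M) {K : Subgroup ((U4 F × U4 F) ≃ₗ[F] (U4 F × U4 F))}
    (hK : ∀ {k x}, k ∈ M → x ∈ K → k * x * k⁻¹ ∈ K) (hup : ∀ a : F, slot0 (upE a) ∈ K)
    {t : F} (ht : t ≠ 0) : slot0 (diE ht) ∈ K := by
  have hlo : ∀ a : F, slot0 (loE a) ∈ K := fun a => by
    have e := roE_conj_upE (-a)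
    rw [neg_neg] at e
    rw [← e, slot0_mul, slot0_mul, slot0_inv]
    exact hK (slE_mem hN _ _ _ _ _) (hup _)
  rw [diE_eq ht]
  simp only [slot0_mul]
  exact K.mul_mem (K.mul_mem (K.mul_mem (hup _) (hlo _)) (hup _))
    (K.mul_mem (K.mul_mem (hup _) (hlo _)) (hup _))

/-- An element outside the wreath product gives a far pair with a large common fixed space. -/
theorem exists_far (hN : ∀ g, Iso g → g ∈ wr F → g ∈ M) (hno : NoRad M) (ht : ∃ t : F, t ≠ 0 ∧ t * t ≠ 1)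
    (hex : ∃ g ∈ M, g ∉ wr F) :
    ∃ g' ∈ M, Far g' ∧ ∃ T : Submodule F (U4 F), finrank F (U4 F) ≤ finrank F T + 2 ∧
      ∀ u ∈ T, g' (u, 0) = (u, 0) := by
  by_contra hno'
  push Not at hno'
  obtain ⟨g₀, hg₀, hg₀w⟩ := hex
  obtain ⟨t, ht0, ht1⟩ := ht
  have htt : t * t - 1 ≠ 0 := sub_ne_zero.2 ht1
  have hrefl : ∀ v (hv : bil F v v ≠ 0), dia (S.reflE hv) ∈ core M (wr F) :=
    fun v hv => refl_mem_core S hN hno hno' hv
  have hup : ∀ a : F, slot0 (upE a) ∈ core M (wr F) := upper_mem_core S hN hrefl ht0 ht1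
  have hH : slot0 (diE ht0) ∈ core M (wr F) := diag_mem S hN (fun hk hx => conj_mem_core hk hx) hup ht0
  have hcomm : ∀ a, slot0 (upE a) = slot0 (diE ht0) * slot0 (upE (a / (t * t - 1))) * (slot0 (diE ht0))⁻¹ *
      (slot0 (upE (a / (t * t - 1))))⁻¹ := fun a => by
    rw [← slot0_inv, ← slot0_inv, ← slot0_mul, ← slot0_mul, ← slot0_mul, ← upE_commutator ht0, div_mul_cancel₀ _ htt]
  have hup' : ∀ a : F, slot0 (upE a) ∈ core M (wrEven F) := fun a => by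
    rw [hcomm a]; exact commutator_mem_core hH (hup _)
  have hH' : slot0 (diE ht0) ∈ core M (wrEven F) := diag_mem S hN (fun hk hx => conj_mem_core hk hx) hup' ht0
  obtain ⟨y, hy⟩ : ∃ y, y = g₀⁻¹ * rl (1 : F) * g₀ := ⟨_, rfl⟩
  have hpure : HasPerm 1 y := by
    obtain ⟨p, hp⟩ : ∃ p, p = slot0 (upE ((1 : F) / (t * t - 1))) := ⟨_, rfl⟩
    obtain ⟨H, hHdef⟩ : ∃ H, H = slot0 (diE ht0) := ⟨_, rfl⟩
    rw [hy, ← slot0_upE_one, hcomm, ← hp, ← hHdef, show g₀⁻¹ * (H * p * H⁻¹ * p⁻¹) * g₀ =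
      (g₀⁻¹ * H * g₀) * (g₀⁻¹ * p * g₀) * (g₀⁻¹ * H * g₀)⁻¹ * (g₀⁻¹ * p * g₀)⁻¹ by group]
    exact commutator_wrEven (hHdef ▸ hH' g₀ hg₀) (hp ▸ hup' _ g₀ hg₀)
  have hyz : ∀ z, y z = z + g₀⁻¹ ((g₀ z).2, 0) := fun z => by
    rw [hy, LinearEquiv.mul_apply, LinearEquiv.mul_apply, rl_eq, one_smul, map_add,
      show g₀⁻¹ (g₀ z) = z from g₀.symm_apply_apply z]
    rfl
  have hN0 : ∀ z, y (y z) - y z = g₀⁻¹ ((g₀ z).2, 0) := fun z => by
    rw [hyz (y z), add_sub_cancel_left, hyz z, map_add, show g₀ (g₀⁻¹ _) = _ from g₀.apply_symm_apply _]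
    simp
  have hsq : ∀ z, y (y z) + z = (2 : F) • y z := fun z => by
    have h := hN0 z
    rw [show g₀⁻¹ ((g₀ z).2, 0) = y z - z by rw [hyz z, add_sub_cancel_left]] at h
    rw [two_smul, ← sub_eq_zero, show y (y z) + z - (y z + y z) = (y (y z) - y z) - (y z - z) by abel, h, sub_self]
  have hy1 : y ≠ 1 := fun e => by
    have h := hyz (g₀⁻¹ (0, Pi.single (0, 0) 1))
    rw [e, show g₀ (g₀⁻¹ _) = _ from g₀.apply_symm_apply _] at h
    have h' := congrArg g₀ (left_eq_add.1 h)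
    rw [show g₀ (g₀⁻¹ _) = _ from g₀.apply_symm_apply _, map_zero] at h'
    have h0 := congrFun (congrArg Prod.fst h') (0, 0)
    simp at h0
  obtain ⟨i, N, b, hb, hNb, hNy⟩ := exists_one_slot S.two hpure hy1 hsq
  obtain ⟨k, hkM, hkw, hk⟩ := exists_to_line hN i hb
  let W' : Submodule F (U4 F × U4 F) :=
    LinearMap.ker ((LinearMap.snd F (U4 F) (U4 F)).comp (k⁻¹ : (U4 F × U4 F) ≃ₗ[F] (U4 F × U4 F)).toLinearMap)
  have hrange : ∀ z, (y.toLinearMap - LinearMap.id : U4 F × U4 F →ₗ[F] U4 F × U4 F) z ∈ W' :=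
    ten_mem_range fun x => by
    rw [LinearMap.mem_ker]
    show (k⁻¹ (y (ten x) - ten x)).2 = 0
    rw [hNy]
    exact hk _ (by rw [Function.update_self]; exact hNb _)
  refine hg₀w ?_
  have := mem_wr_of_plane S hno (M.inv_mem hg₀) hkM hkw fun u => by
    have h : (k⁻¹ (y (g₀⁻¹ (0, u)) - g₀⁻¹ (0, u))).2 = 0 := LinearMap.mem_ker.1 (hrange (g₀⁻¹ (0, u)))
    rwa [hyz, add_sub_cancel_left, show g₀ (g₀⁻¹ ((0 : U4 F), u)) = (0, u) from g₀.apply_symm_apply _] at h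
  simpa using (wr F).inv_mem this

theorem le_wr_of_noRad [Finite F] (hN : ∀ g, Iso g → g ∈ wr F → g ∈ M) (h5 : 5 ≤ Nat.card F) (hno : NoRad M)
    [Finite ((U4 F × U4 F) ≃ₗ[F] (U4 F × U4 F))] : M ≤ wr F := by
  classical
  intro g hg
  by_contra hgw
  obtain ⟨t, ht0, ht1⟩ : ∃ t : F, t ≠ 0 ∧ t * t ≠ 1 := by
    by_contra hno'
    push Not at hno'
    have := Fintype.ofFinite F
    have hsub : (Finset.univ : Finset F) ⊆ {0, 1, -1} := fun x _ => by
      by_cases hx : x = 0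
      · simp [hx]
      · rcases mul_self_eq_one_iff.1 (hno' x hx) with h | h <;> simp [h]
    have := (Finset.card_le_card hsub).trans Finset.card_le_three
    rw [Finset.card_univ, ← Nat.card_eq_fintype_card] at this
    omega
  obtain ⟨g', hg', hfar, T, hTd, hT⟩ := exists_far S hN hno ⟨t, ht0, ht1⟩ ⟨g, hg, hgw⟩
  exact S.false_of_far hno (Or.inr (Or.inl h5)) hg' hfar hTd hT

end Cfsg.Agent.Lib.SpTensorCube
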