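import Cfsg.Prelude.Def_GeometricClasses
import Cfsg.Agent.Lib.SympMax.Basic
import Cfsg.Agent.Lib.SpTensorCube.Far

/-!
The stabiliser of a decomposition of `Sp_8` as the third tensor power of a plane is maximal.
-/

set_option autoImplicit false
set_option linter.unusedSectionVars false

namespace Cfsg.Agent.Lib.SpTensorCube

open Matrix Module Cfsg.Agent.Lib Cfsg.Agent.Lib.SpOTensor

variable {F : Type*} [Field F]

/-- The coordinates of a tensor. -/
def vec : (U4 F × U4 F) ≃ₗ[F] ((Fin 3 → Fin 2) → F) where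
  toFun z a := if a 0 = 0 then z.1 (a 1, a 2) else z.2 (a 1, a 2)
  map_add' z w := funext fun a => by by_cases h : a 0 = 0 <;> simp [h]
  map_smul' c z := funext fun a => by by_cases h : a 0 = 0 <;> simp [h]
  invFun v := (fun p => v ![0, p.1, p.2], fun p => v ![1, p.1, p.2])
  left_inv z := Prod.ext (funext fun p => by simp) (funext fun p => by simp)
  right_inv v := funext fun a => by
    have e : ∀ i, a 0 = i → v ![i, a 1, a 2] = v a := fun i hi => by
      congr 1; funext j; fin_cases j <;> simp [hi]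
    by_cases h : a 0 = 0
    · simpa [h] using e 0 h
    · have h1 : a 0 = 1 := by omega
      simpa [h1] using e 1 h1

theorem vec_ten (x : Fin 3 → V2 F) (a : Fin 3 → Fin 2) : vec (ten x) a = ∏ i, x i (a i) := by
  rw [Fin.prod_univ_three]
  show (if a 0 = 0 then _ else _) = _
  by_cases h : a 0 = 0
  · rw [if_pos h, h]; show x 0 0 * (x 1 (a 1) * x 2 (a 2)) = _; ring
  · have h1 : a 0 = 1 := by omega
    rw [if_neg h, h1]; show x 0 1 * (x 1 (a 1) * x 2 (a 2)) = _; ring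

variable (e : (Fin 4 ⊕ Fin 4) ≃ (Fin 3 → Fin 2)) (P : GL (Fin 4 ⊕ Fin 4) F)

/-- The change of variables. -/
noncomputable def coord : (U4 F × U4 F) ≃ₗ[F] (Fin 4 ⊕ Fin 4 → F) :=
  vec.trans ((LinearEquiv.funCongrLeft F F e).trans (Forms.glEquiv (Fin 4 ⊕ Fin 4) F P))

theorem coord_apply (z : U4 F × U4 F) :
    coord e P z = (P : Matrix (Fin 4 ⊕ Fin 4) (Fin 4 ⊕ Fin 4) F) *ᵥ (vec z ∘ e) := rfl

/-- Transport of matrices. -/
noncomputable def toPair : GL (Fin 4 ⊕ Fin 4) F →* ((U4 F × U4 F) ≃ₗ[F] (U4 F × U4 F)) where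
  toFun g := ((coord e P).trans (Forms.glEquiv (Fin 4 ⊕ Fin 4) F g)).trans (coord e P).symm
  map_one' := LinearEquiv.ext fun z => by simp
  map_mul' g h := LinearEquiv.ext fun z => by simp [mulVec_mulVec]

theorem coord_toPair (g : GL (Fin 4 ⊕ Fin 4) F) (z : U4 F × U4 F) :
    coord e P (toPair e P g z) = (g : Matrix (Fin 4 ⊕ Fin 4) (Fin 4 ⊕ Fin 4) F) *ᵥ coord e P z := by
  simp [toPair]

theorem toPair_injective : Function.Injective (toPair e P : GL (Fin 4 ⊕ Fin 4) F → _) := by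
  intro g h hgh
  refine Units.ext (Matrix.ext_iff_mulVec.mpr fun v => ?_)
  obtain ⟨z, rfl⟩ := (coord e P).surjective v
  rw [← coord_toPair, ← coord_toPair, hgh]

theorem toPair_surjective (h : (U4 F × U4 F) ≃ₗ[F] (U4 F × U4 F)) : ∃ g, toPair e P g = h :=
  ⟨(Forms.glEquiv (Fin 4 ⊕ Fin 4) F).symm (((coord e P).symm.trans h).trans (coord e P)),
    LinearEquiv.ext fun z => (coord e P).injective (by
      rw [coord_toPair, Forms.glEquiv_symm_mulVec]; simp)⟩

/-- A matrix of the standard tensor power, in the coordinates. -/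
noncomputable def std : GL (Fin 3 → Fin 2) F →* GL (Fin 4 ⊕ Fin 4) F :=
  (MulAut.conj P).toMonoidHom.comp (Cfsg.Geo.glReindex e.symm).toMonoidHom

theorem vec_std (L : GL (Fin 3 → Fin 2) F) (z : U4 F × U4 F) :
    vec (toPair e P (std e P L) z) = (L : Matrix (Fin 3 → Fin 2) (Fin 3 → Fin 2) F) *ᵥ vec z := by
  obtain ⟨w, hw⟩ := (vec (F := F)).surjective ((L : Matrix (Fin 3 → Fin 2) (Fin 3 → Fin 2) F) *ᵥ vec z)
  suffices h : toPair e P (std e P L) z = w by rw [h, hw]
  apply (coord e P).injective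
  rw [coord_toPair, coord_apply, coord_apply, hw]
  show ((P * Cfsg.Geo.glReindex e.symm L * P⁻¹ : GL (Fin 4 ⊕ Fin 4) F) :
      Matrix (Fin 4 ⊕ Fin 4) (Fin 4 ⊕ Fin 4) F) *ᵥ _ = _
  rw [mulVec_mulVec, Units.val_mul, mul_assoc, ← Units.val_mul, inv_mul_cancel, Units.val_one,
    mul_one, Units.val_mul, ← mulVec_mulVec]
  congr 1
  show (Matrix.reindexAlgEquiv F F e.symm (L : Matrix (Fin 3 → Fin 2) (Fin 3 → Fin 2) F)) *ᵥ _ = _
  rw [Matrix.coe_reindexAlgEquiv, Matrix.reindex_apply, Equiv.symm_symm, Matrix.submatrix_mulVec_equiv]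
  congr 2
  funext x
  simp

theorem hasPerm_of_pure {L : GL (Fin 3 → Fin 2) F} (hL : Cfsg.Geo.IsPureTensor 2 3 L) :
    HasPerm 1 (toPair e P (std e P L)) := by
  obtain ⟨gs, hgs⟩ := hL
  refine ⟨fun i => Forms.glEquiv (Fin 2) F (gs i), fun x => vec.injective (funext fun a => ?_)⟩
  rw [vec_std, vec_ten]
  simp only [mulVec, dotProduct, vec_ten, hgs, ← Finset.prod_mul_distrib, Forms.glEquiv_apply,
    Equiv.Perm.one_apply]
  rw [Fintype.prod_sum]

theorem hasPerm_of_perm {L : GL (Fin 3 → Fin 2) F} {σ : Equiv.Perm (Fin 3)}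
    (hσ : ∀ x y, (L : Matrix (Fin 3 → Fin 2) (Fin 3 → Fin 2) F) x y = if y = x ∘ σ then 1 else 0) :
    HasPerm σ⁻¹ (toPair e P (std e P L)) := by
  refine ⟨fun _ => LinearEquiv.refl F _, fun x => vec.injective (funext fun a => ?_)⟩
  rw [vec_std, vec_ten]
  simp only [mulVec, dotProduct, vec_ten, hσ, ite_mul, one_mul, zero_mul, Finset.sum_ite_eq', Finset.mem_univ,
    if_true, LinearEquiv.refl_apply, Function.comp_apply]
  rw [← Equiv.prod_comp σ fun i => x (σ⁻¹ i) (a i)]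
  simp

theorem mem_wr_of_mem {g : GL (Fin 4 ⊕ Fin 4) F} (hg : g ∈ Cfsg.Geo.tensorWreathSubgroup 2 3 e P) :
    toPair e P g ∈ wr F := by
  obtain ⟨_, ⟨L, hL, rfl⟩, rfl⟩ := hg
  have key : Cfsg.Geo.tensorWreathStandard 2 3 F ≤ (wr F).comap ((toPair e P).comp (std e P)) := by
    rw [Cfsg.Geo.tensorWreathStandard, Subgroup.closure_le]
    rintro L (h | ⟨σ, hσ⟩)
    · exact ⟨_, hasPerm_of_pure e P h⟩
    · exact ⟨_, hasPerm_of_perm e P hσ⟩
  exact key hL

theorem mem_of_mem_wr {g : GL (Fin 4 ⊕ Fin 4) F} (hg : toPair e P g ∈ wr F) :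
    g ∈ Cfsg.Geo.tensorWreathSubgroup 2 3 e P := by
  obtain ⟨π, hπ⟩ := hg
  obtain ⟨L, hL⟩ : ∃ L, std e P L = g := ⟨((Cfsg.Geo.glReindex e.symm).symm ((MulAut.conj P).symm g)), by
    simp [std]; group⟩
  subst hL
  obtain ⟨Q, hQ⟩ : ∃ Q : GL (Fin 3 → Fin 2) F, ∀ x y,
      (Q : Matrix (Fin 3 → Fin 2) (Fin 3 → Fin 2) F) x y = if y = x ∘ ⇑(π⁻¹ : Equiv.Perm (Fin 3)) then 1 else 0 := by
    refine ⟨(Forms.glEquiv (Fin 3 → Fin 2) F).symm
      (LinearEquiv.funCongrLeft F F (Equiv.arrowCongr π (Equiv.refl (Fin 2)))), fun x y => ?_⟩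
    obtain ⟨f, hf⟩ : ∃ f, f = LinearEquiv.funCongrLeft F F (Equiv.arrowCongr π (Equiv.refl (Fin 2))) := ⟨_, rfl⟩
    rw [← hf]
    have h := congrFun (Forms.glEquiv_symm_mulVec f (Pi.single y 1)) x
    rw [Matrix.mulVec_single_one, Matrix.col_apply] at h
    rw [h, hf]
    simp [LinearMap.funLeft, Pi.single_apply, eq_comm, Function.comp_def, Equiv.arrowCongr]
  have h1 : HasPerm 1 (toPair e P (std e P (L * Q⁻¹))) := by
    have h := hπ.mul (hasPerm_of_perm e P hQ).inv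
    rw [inv_inv, inv_mul_cancel] at h
    rwa [map_mul, map_mul, map_inv, map_inv]
  obtain ⟨A, hA⟩ := h1
  have hpure : Cfsg.Geo.IsPureTensor 2 3 (L * Q⁻¹) := by
    refine ⟨fun i => (Forms.glEquiv (Fin 2) F).symm (A i), fun x y => ?_⟩
    have hy : (Pi.single y 1 : (Fin 3 → Fin 2) → F) = vec (ten fun i => Pi.single (y i) 1) := by
      funext a
      rw [vec_ten]
      by_cases h : a = y
      · subst h; simp
      · obtain ⟨i, hi⟩ := Function.ne_iff.1 h
        rw [Pi.single_eq_of_ne h, Finset.prod_eq_zero (Finset.mem_univ i) (Pi.single_eq_of_ne hi _)]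
    have h := congrArg (fun z => vec z x) (hA fun i => Pi.single (y i) 1)
    simp only [vec_std, ← hy, vec_ten, Matrix.mulVec_single_one, Equiv.Perm.one_apply, Matrix.col_apply] at h
    rw [h]
    refine Finset.prod_congr rfl fun i _ => ?_
    rw [← Forms.glEquiv_symm_mulVec, Matrix.mulVec_single_one]
    rfl
  refine ⟨_, ⟨L, ?_, rfl⟩, rfl⟩
  rw [← inv_mul_cancel_right L Q]
  exact (Cfsg.Geo.tensorWreathStandard 2 3 F).mul_mem (Subgroup.subset_closure (Or.inl hpure))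
    (Subgroup.subset_closure (Or.inr ⟨π⁻¹, hQ⟩))

theorem exists_form {f₁ : (Fin 2 → F) → (Fin 2 → F) → F} (hf₁ : Cfsg.Geo.IsSymplecticForm f₁)
    (hT : Cfsg.Geo.IsTensorPowerFormStructure id (Cfsg.sympForm 4 F) f₁ e P) :
    ∃ κ : F, κ ≠ 0 ∧ ∀ z w, Cfsg.sympForm 4 F (coord e P z) (coord e P w) = κ * om (bil F) z w := by
  obtain ⟨c, hc, hT⟩ := hT
  obtain ⟨d, hd, hG⟩ := MaxClass.SympTensorPlus.gramMatrix_symp_two hf₁
  refine ⟨c * d ^ 3, mul_ne_zero hc (pow_ne_zero _ hd), fun z w => ?_⟩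
  let G8 : Matrix (Fin 3 → Fin 2) (Fin 3 → Fin 2) F :=
    Matrix.of fun a b => ∏ i, Cfsg.Geo.gramMatrix f₁ (a i) (b i)
  have e8 : (Matrix.toBilin' G8).compl₁₂ vec.toLinearMap vec.toLinearMap = d ^ 3 • omL F := by
    refine ext_ten fun x => ext_ten fun y => ?_
    show Matrix.toBilin' G8 (vec (ten x)) (vec (ten y)) = d ^ 3 * om (bil F) (ten x) (ten y)
    rw [Matrix.toBilin'_apply, om_ten]
    simp only [G8, Matrix.of_apply, vec_ten, ← Finset.prod_mul_distrib]
    rw [show d ^ 3 * ∏ i, jf (x i) (y i) = ∏ i, d * jf (x i) (y i) by simp [Finset.prod_mul_distrib]]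
    rw [Finset.sum_congr rfl fun a _ => (Fintype.prod_sum fun i j => x i (a i) *
      Cfsg.Geo.gramMatrix f₁ (a i) j * y i j).symm, ← Fintype.prod_sum fun i k => ∑ j, x i k *
      Cfsg.Geo.gramMatrix f₁ k j * y i j]
    refine Finset.prod_congr rfl fun i _ => ?_
    simp [hG, MaxClass.SympTensorPlus.jTwo, jf, Fin.sum_univ_two]
    ring
  have h := LinearMap.congr_fun (LinearMap.congr_fun e8 z) w
  rw [LinearMap.compl₁₂_apply, Matrix.toBilin'_apply] at h
  rw [coord_apply, coord_apply, hT, mul_assoc]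
  congr 1

/-- The tensor wreath stabiliser `Sp_2 ≀ S_3` is maximal in `Sp_8`. -/
theorem isMaximalIn_tensorWreath [Finite F] (h2 : (2 : F) ≠ 0) (h5 : 5 ≤ Nat.card F)
    {f₁ : (Fin 2 → F) → (Fin 2 → F) → F} (hf₁ : Cfsg.Geo.IsSymplecticForm f₁)
    (hT : Cfsg.Geo.IsTensorPowerFormStructure id (Cfsg.sympForm 4 F) f₁ e P) :
    Cfsg.Geo.IsMaximalIn (Cfsg.spGL 4 F) (Cfsg.Geo.tensorWreathSubgroup 2 3 e P ⊓ Cfsg.spGL 4 F) := by
  classical
  obtain ⟨κ, hκ, hf⟩ := exists_form e P hf₁ hT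
  have hfr : finrank F (U4 F) = 4 := by simp
  have hsp : ∀ g, g ∈ Cfsg.spGL 4 F ↔ Iso (toPair e P g) := fun g => by
    constructor
    · intro hg z w
      refine mul_left_cancel₀ hκ ?_
      rw [← hf, ← hf, coord_toPair, coord_toPair, SympMax.apply_sp hg]
    · intro hg u v
      obtain ⟨z, rfl⟩ := (coord e P).surjective u
      obtain ⟨w, rfl⟩ := (coord e P).surjective v
      show Cfsg.sympForm 4 F ((g : Matrix (Fin 4 ⊕ Fin 4) (Fin 4 ⊕ Fin 4) F) *ᵥ coord e P z)
        ((g : Matrix (Fin 4 ⊕ Fin 4) (Fin 4 ⊕ Fin 4) F) *ᵥ coord e P w) = _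
      rw [← coord_toPair, ← coord_toPair, hf, hf, hg]
  refine ⟨lt_of_le_of_ne inf_le_right fun heq => ?_, fun M hHM hMS => ?_⟩
  · obtain ⟨Z, hZ⟩ : ∃ Z : U4 F × U4 F, Z = ten fun _ => Pi.single 0 1 := ⟨_, rfl⟩
    obtain ⟨π, A, hA⟩ := mem_wr_of_mem e P (heq.ge (SympMax.T_mem (coord e P Z) 1)).1
    have hTz : ∀ z, toPair e P (SympMax.T (coord e P Z) 1) z = z + (κ * om (bil F) z Z) • Z := by
      intro z
      apply (coord e P).injective
      rw [coord_toPair, SympMax.T_mulVec, hf, one_mul, map_add, map_smul]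
    have h := (hTz (ten fun _ => Pi.single 1 1)).symm.trans (hA _)
    have h000 := congrFun (congrArg Prod.fst h) (0, 0)
    have h111 := congrFun (congrArg Prod.snd h) (1, 1)
    have h100 := congrFun (congrArg Prod.snd h) (0, 0)
    simp [hZ, ten, om_ten, jf, Fin.prod_univ_three] at h000 h111 h100
    rcases h100 with h0 | h0 | h0
    · rw [h0, zero_mul] at h111; exact one_ne_zero h111
    · rw [h0] at h000; simp [om, bil_apply, hκ] at h000
    · rw [h0] at h000; simp [om, bil_apply, hκ] at h000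
  · have hN : ∀ h, Iso h → h ∈ wr F → h ∈ M.map (toPair e P) := fun h hh hw => by
      obtain ⟨g, rfl⟩ := toPair_surjective e P h
      exact ⟨g, hHM ⟨mem_of_mem_wr e P hw, (hsp g).2 hh⟩, rfl⟩
    have S : Setup (bil F) (M.map (toPair e P)) :=
      { symm := bil_symm
        nondeg := fun x hx => by
          funext ⟨i, j⟩
          have h := hx (Pi.single (1 - i, 1 - j) 1)
          fin_cases i <;> fin_cases j <;> simp [bil_apply] at h <;> simpa using h
        two := h2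
        iso := by
          rintro _ ⟨g, hg, rfl⟩
          exact (hsp g).1 (hMS hg)
        kr := fun h hh hk => hN h hh (mem_wr_of_isKr h2 hk hh)
        three := by omega
        four := Or.inr hfr }
    have : Finite ((U4 F × U4 F) ≃ₗ[F] (U4 F × U4 F)) := Finite.of_injective _ DFunLike.coe_injective
    by_cases hno : NoRad (M.map (toPair e P))
    · left
      exact le_antisymm (fun g hg => ⟨mem_of_mem_wr e P
        (le_wr_of_noRad S hN h5 hno (Subgroup.mem_map_of_mem _ hg)), hMS hg⟩) hHM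
    · right
      refine SympMax.eq_spGL hMS fun v c => ?_
      obtain ⟨Z, rfl⟩ := (coord e P).surjective v
      obtain ⟨_, ⟨g, hg, rfl⟩, hgz⟩ := S.all_roots hfr.ge hno Z (c * κ)
      suffices h : SympMax.T (coord e P Z) c = g by rw [h]; exact hg
      apply toPair_injective e P
      refine LinearEquiv.ext fun w => (coord e P).injective ?_
      rw [coord_toPair, SympMax.T_mulVec, hf, hgz, map_add, map_smul, mul_assoc]

end Cfsg.Agent.Lib.SpTensorCube
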