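import Cfsg.Agent.Lib.SpTensorCube.Basic
import Cfsg.Agent.Lib.Forms.Bridge

/-!
Isometries of the threefold tensor power moving or exchanging single factors.
-/

set_option autoImplicit false
set_option linter.unusedSectionVars false

namespace Cfsg.Agent.Lib.SpTensorCube

open Matrix Module Cfsg.Agent.Lib Cfsg.Agent.Lib.SpOTensor

variable {F : Type*} [Field F]

/-- The form is preserved. -/
def Iso (g : (U4 F × U4 F) ≃ₗ[F] (U4 F × U4 F)) : Prop := ∀ z w, om (bil F) (g z) (g w) = om (bil F) z w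

theorem om_add_left' (x y z : U4 F × U4 F) : om (bil F) (x + y) z = om (bil F) x z + om (bil F) y z := by
  simp only [om, Prod.fst_add, Prod.snd_add, map_add, LinearMap.add_apply]; ring

theorem om_smul_left' (t : F) (x z : U4 F × U4 F) : om (bil F) (t • x) z = t * om (bil F) x z := by
  simp only [om, Prod.smul_fst, Prod.smul_snd, map_smul, LinearMap.smul_apply, smul_eq_mul]; ring

theorem om_add_right' (x y z : U4 F × U4 F) : om (bil F) x (y + z) = om (bil F) x y + om (bil F) x z := by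
  simp only [om, Prod.fst_add, Prod.snd_add, map_add]; ring

theorem om_smul_right' (t : F) (x z : U4 F × U4 F) : om (bil F) x (t • z) = t * om (bil F) x z := by
  simp only [om, Prod.smul_fst, Prod.smul_snd, map_smul, smul_eq_mul]; ring

/-- The form of the product as a bilinear form. -/
noncomputable def omL (F : Type*) [Field F] : LinearMap.BilinForm F (U4 F × U4 F) :=
  LinearMap.mk₂ F (om (bil F)) om_add_left' om_smul_left' om_add_right' om_smul_right'

theorem iso_of_ten {g : (U4 F × U4 F) ≃ₗ[F] (U4 F × U4 F)}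
    (h : ∀ x y, om (bil F) (g (ten x)) (g (ten y)) = om (bil F) (ten x) (ten y)) : Iso g := by
  have e : (omL F).compl₁₂ g.toLinearMap g.toLinearMap = omL F :=
    ext_ten fun x => ext_ten fun y => h x y
  exact fun z w => LinearMap.congr_fun (LinearMap.congr_fun e z) w

theorem Iso.mul {g h : (U4 F × U4 F) ≃ₗ[F] (U4 F × U4 F)} (hg : Iso g) (hh : Iso h) : Iso (g * h) :=
  fun z w => (hg _ _).trans (hh z w)

/-- A map of the first factor. -/
def slot0 (A : V2 F ≃ₗ[F] V2 F) : (U4 F × U4 F) ≃ₗ[F] (U4 F × U4 F) where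
  toFun z := (fun p => A ![z.1 p, z.2 p] 0, fun p => A ![z.1 p, z.2 p] 1)
  map_add' z w := by
    have e : ∀ p, ![(z + w).1 p, (z + w).2 p] = ![z.1 p, z.2 p] + ![w.1 p, w.2 p] := fun p => by
      funext i; fin_cases i <;> simp
    refine Prod.ext (funext fun p => ?_) (funext fun p => ?_)
    · show A _ 0 = A _ 0 + A _ 0
      rw [e, map_add]; rfl
    · show A _ 1 = A _ 1 + A _ 1
      rw [e, map_add]; rfl
  map_smul' c z := by
    have e : ∀ p, ![(c • z).1 p, (c • z).2 p] = c • ![z.1 p, z.2 p] := fun p => by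
      funext i; fin_cases i <;> simp
    refine Prod.ext (funext fun p => ?_) (funext fun p => ?_)
    · show A _ 0 = c * A _ 0
      rw [e, map_smul]; rfl
    · show A _ 1 = c * A _ 1
      rw [e, map_smul]; rfl
  invFun z := (fun p => A.symm ![z.1 p, z.2 p] 0, fun p => A.symm ![z.1 p, z.2 p] 1)
  left_inv z := by
    have e : ∀ w : V2 F, ![w 0, w 1] = w := fun w => by funext i; fin_cases i <;> rfl
    exact Prod.ext (funext fun p => by simp [e]) (funext fun p => by simp [e])
  right_inv z := by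
    have e : ∀ w : V2 F, ![w 0, w 1] = w := fun w => by funext i; fin_cases i <;> rfl
    exact Prod.ext (funext fun p => by simp [e]) (funext fun p => by simp [e])

theorem slot0_ten (A : V2 F ≃ₗ[F] V2 F) (x : Fin 3 → V2 F) :
    slot0 A (ten x) = ten ![A (x 0), x 1, x 2] := by
  have e : ∀ t : F, ![x 0 0 * t, x 0 1 * t] = t • x 0 := fun t => by
    funext i; fin_cases i <;> simp [mul_comm]
  refine Prod.ext (funext fun p => ?_) (funext fun p => ?_) <;>
    simp [slot0, ten, e, map_smul] <;> ring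

theorem slot0_hasPerm (A : V2 F ≃ₗ[F] V2 F) : HasPerm 1 (slot0 A) :=
  ⟨![A, LinearEquiv.refl F _, LinearEquiv.refl F _], fun x => by
    rw [slot0_ten]; congr 1; funext i; fin_cases i <;> rfl⟩

theorem slot0_iso {A : V2 F ≃ₗ[F] V2 F} (hA : ∀ a b, jf (A a) (A b) = jf a b) : Iso (slot0 A) :=
  iso_of_ten fun x y => by simp [slot0_ten, om_ten, Fin.prod_univ_three, hA]

/-- The exchange of the first two factors. -/
def s01 (F : Type*) [Field F] : (U4 F × U4 F) ≃ₗ[F] (U4 F × U4 F) where
  toFun z := (fun p => if p.1 = 0 then z.1 (0, p.2) else z.2 (0, p.2),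
    fun p => if p.1 = 0 then z.1 (1, p.2) else z.2 (1, p.2))
  map_add' z w := Prod.ext (funext fun p => by by_cases h : p.1 = 0 <;> simp [h])
    (funext fun p => by by_cases h : p.1 = 0 <;> simp [h])
  map_smul' c z := Prod.ext (funext fun p => by by_cases h : p.1 = 0 <;> simp [h])
    (funext fun p => by by_cases h : p.1 = 0 <;> simp [h])
  invFun z := (fun p => if p.1 = 0 then z.1 (0, p.2) else z.2 (0, p.2),
    fun p => if p.1 = 0 then z.1 (1, p.2) else z.2 (1, p.2))
  left_inv z := Prod.ext (funext fun ⟨i, j⟩ => by fin_cases i <;> simp)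
    (funext fun ⟨i, j⟩ => by fin_cases i <;> simp)
  right_inv z := Prod.ext (funext fun ⟨i, j⟩ => by fin_cases i <;> simp)
    (funext fun ⟨i, j⟩ => by fin_cases i <;> simp)

theorem s01_ten (x : Fin 3 → V2 F) : s01 F (ten x) = ten ![x 1, x 0, x 2] := by
  refine Prod.ext (funext fun ⟨i, j⟩ => ?_) (funext fun ⟨i, j⟩ => ?_) <;>
    fin_cases i <;> simp [s01, ten] <;> ring

theorem s01_hasPerm : HasPerm (Equiv.swap 0 1) (s01 F) :=
  ⟨fun _ => LinearEquiv.refl F _, fun x => by rw [s01_ten]; congr 1; funext i; fin_cases i <;> rfl⟩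

theorem s01_iso : Iso (s01 F) :=
  iso_of_ten fun x y => by
    rw [s01_ten, s01_ten, om_ten, om_ten, Fin.prod_univ_three, Fin.prod_univ_three]
    show jf (x 1) (y 1) * jf (x 0) (y 0) * jf (x 2) (y 2) = _
    ring

/-- The exchange of the last two factors. -/
def s12 (F : Type*) [Field F] : (U4 F × U4 F) ≃ₗ[F] (U4 F × U4 F) :=
  dia (LinearEquiv.funCongrLeft F F (Equiv.prodComm (Fin 2) (Fin 2)))

theorem s12_ten (x : Fin 3 → V2 F) : s12 F (ten x) = ten ![x 0, x 2, x 1] := by
  refine Prod.ext (funext fun ⟨i, j⟩ => ?_) (funext fun ⟨i, j⟩ => ?_)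
  · show x 0 0 * (x 1 j * x 2 i) = x 0 0 * (x 2 i * x 1 j)
    ring
  · show x 0 1 * (x 1 j * x 2 i) = x 0 1 * (x 2 i * x 1 j)
    ring

theorem s12_hasPerm : HasPerm (Equiv.swap 1 2) (s12 F) :=
  ⟨fun _ => LinearEquiv.refl F _, fun x => by rw [s12_ten]; congr 1; funext i; fin_cases i <;> rfl⟩

theorem s12_iso : Iso (s12 F) :=
  iso_of_ten fun x y => by
    rw [s12_ten, s12_ten, om_ten, om_ten, Fin.prod_univ_three, Fin.prod_univ_three]
    show jf (x 0) (y 0) * jf (x 2) (y 2) * jf (x 1) (y 1) = _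
    ring

/-- An element of the special linear group of the plane. -/
def slE (a b c d : F) (h : a * d - b * c = 1) : V2 F ≃ₗ[F] V2 F where
  toFun v := ![a * v 0 + b * v 1, c * v 0 + d * v 1]
  map_add' v w := by funext i; fin_cases i <;> simp <;> ring
  map_smul' t v := by funext i; fin_cases i <;> simp <;> ring
  invFun v := ![d * v 0 - b * v 1, a * v 1 - c * v 0]
  left_inv v := by
    funext i; fin_cases i <;> simp
    · linear_combination (v 0) * h
    · linear_combination (v 1) * h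
  right_inv v := by
    funext i; fin_cases i <;> simp
    · linear_combination (v 0) * h
    · linear_combination (v 1) * h

theorem slE_apply (a b c d : F) (h : a * d - b * c = 1) (v : V2 F) :
    slE a b c d h v = ![a * v 0 + b * v 1, c * v 0 + d * v 1] := rfl

theorem slE_jf (a b c d : F) (h : a * d - b * c = 1) (u v : V2 F) :
    jf (slE a b c d h u) (slE a b c d h v) = jf u v := by
  simp [jf, slE_apply]; linear_combination (u 0 * v 1 - u 1 * v 0) * h


/-- The first factor as a homomorphism. -/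
theorem slot0_mul (A B : V2 F ≃ₗ[F] V2 F) : slot0 (A * B) = slot0 A * slot0 B :=
  gl_ext_ten fun x => by simp [LinearEquiv.mul_apply, slot0_ten]

theorem slot0_one : slot0 (1 : V2 F ≃ₗ[F] V2 F) = 1 :=
  mul_left_cancel (a := slot0 (1 : V2 F ≃ₗ[F] V2 F)) (by rw [← slot0_mul, mul_one, mul_one])

theorem slot0_inv (A : V2 F ≃ₗ[F] V2 F) : slot0 A⁻¹ = (slot0 A)⁻¹ :=
  eq_inv_of_mul_eq_one_left (by rw [← slot0_mul, inv_mul_cancel, slot0_one])

theorem slE_congr {a b c d a' b' c' d' : F} {h : a * d - b * c = 1} {h' : a' * d' - b' * c' = 1}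
    (e₁ : a = a') (e₂ : b = b') (e₃ : c = c') (e₄ : d = d') : slE a b c d h = slE a' b' c' d' h' := by
  subst e₁ e₂ e₃ e₄; rfl

theorem slE_mul {a b c d a' b' c' d' : F} (h : a * d - b * c = 1) (h' : a' * d' - b' * c' = 1) :
    slE a b c d h * slE a' b' c' d' h' = slE (a * a' + b * c') (a * b' + b * d') (c * a' + d * c')
      (c * b' + d * d') (by linear_combination (a * d - b * c) * h' + h) :=
  LinearEquiv.ext fun v => funext fun i => by
    fin_cases i <;> simp [LinearEquiv.mul_apply, slE_apply] <;> ring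

theorem slE_inv {a b c d : F} (h : a * d - b * c = 1) :
    (slE a b c d h)⁻¹ = slE d (-b) (-c) a (by linear_combination h) :=
  inv_eq_of_mul_eq_one_right (LinearEquiv.ext fun v => funext fun i => by
    fin_cases i <;> simp [LinearEquiv.mul_apply, slE_apply]
    · linear_combination (v 0) * h
    · linear_combination (v 1) * h)

theorem exists_slE_to {b : V2 F} (hb : b ≠ 0) :
    ∃ A : V2 F ≃ₗ[F] V2 F, (∀ u v, jf (A u) (A v) = jf u v) ∧ A (Pi.single 0 1) = b := by
  by_cases h : b 0 = 0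
  · have h1 : b 1 ≠ 0 := fun e => hb (funext fun i => by fin_cases i <;> assumption)
    refine ⟨slE (b 0) (-(b 1)⁻¹) (b 1) 0 (by field_simp; ring), slE_jf _ _ _ _ _, ?_⟩
    funext i; fin_cases i <;> simp [slE_apply]
  · refine ⟨slE (b 0) 0 (b 1) (b 0)⁻¹ (by field_simp; ring), slE_jf _ _ _ _ _, ?_⟩
    funext i; fin_cases i <;> simp [slE_apply]

/-- Kronecker isometries permute the factors. -/
theorem mem_wr_of_isKr (h2 : (2 : F) ≠ 0) {g : (U4 F × U4 F) ≃ₗ[F] (U4 F × U4 F)} (hg : IsKr g)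
    (hi : Iso g) : g ∈ wr F := by
  classical
  obtain ⟨a, b, c, d, A, hA⟩ := hg
  have hiso : ∀ p q, (a * d - b * c) * bil F (A p) (A q) = bil F p q := by
    intro p q
    have h := hi (p, 0) (0, q)
    simp only [om, hA, map_zero, smul_zero, add_zero, zero_add, map_smul, LinearMap.smul_apply, smul_eq_mul,
      LinearMap.zero_apply, sub_zero] at h
    linear_combination h
  have hδ : a * d - b * c ≠ 0 := fun e => by
    have h := hiso (Pi.single (0, 0) 1) (Pi.single (1, 1) 1)
    rw [e, zero_mul, bil_apply] at h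
    simp at h
  obtain ⟨G, hG⟩ : ∃ G, G = Matrix.kroneckerMap (· * ·) (MaxClass.SympTensorPlus.jTwo F)
      (MaxClass.SympTensorPlus.jTwo F) := ⟨_, rfl⟩
  obtain ⟨L, hL⟩ : ∃ L, L = LinearMap.toMatrix' (A : U4 F →ₗ[F] U4 F) := ⟨_, rfl⟩
  have hLv : ∀ v, L *ᵥ v = A v := fun v => by rw [hL, ← Matrix.toLin'_apply, Matrix.toLin'_toMatrix']; rfl
  have hsim : L.transpose * G * L = (a * d - b * c)⁻¹ • G := by
    ext i j
    have h := hiso (Pi.single i 1) (Pi.single j 1)
    simp only [bil, ← hG, Matrix.toBilin'_apply', ← hLv] at h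
    rw [Matrix.dotProduct_mulVec, ← Matrix.vecMul_transpose, Matrix.vecMul_vecMul, ← Matrix.dotProduct_mulVec,
      Matrix.mulVec_mulVec] at h
    simp only [Matrix.mulVec_single_one, single_dotProduct, one_mul, Matrix.col_apply] at h
    rw [Matrix.smul_apply, smul_eq_mul, ← h, ← mul_assoc, inv_mul_cancel₀ hδ, one_mul]
  obtain ⟨p, q, hpq⟩ := MaxClass.SympTensorPlus.similitude_det_two h2 (inv_ne_zero hδ) (hG ▸ hsim)
  let B : V2 F →ₗ[F] V2 F :=
    { toFun := fun v => ![a * v 0 + b * v 1, c * v 0 + d * v 1]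
      map_add' := fun v w => by funext i; fin_cases i <;> simp <;> ring
      map_smul' := fun t v => by funext i; fin_cases i <;> simp <;> ring }
  have hBinj : Function.Injective B := (injective_iff_map_eq_zero B).2 fun v hv => by
    have e0 : a * v 0 + b * v 1 = 0 := congrFun hv 0
    have e1 : c * v 0 + d * v 1 = 0 := congrFun hv 1
    funext i
    fin_cases i
    · exact (mul_eq_zero.1 (show (a * d - b * c) * v 0 = 0 by linear_combination d * e0 - b * e1)).resolve_left hδ
    · exact (mul_eq_zero.1 (show (a * d - b * c) * v 1 = 0 by linear_combination a * e1 - c * e0)).resolve_left hδ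
  let Be := LinearEquiv.ofBijective B ⟨hBinj, LinearMap.injective_iff_surjective.1 hBinj⟩
  have hBe : ∀ v, Be v = ![a * v 0 + b * v 1, c * v 0 + d * v 1] := fun v => rfl
  let pe := Forms.glEquiv (Fin 2) F p
  let qe := Forms.glEquiv (Fin 2) F q
  rcases hpq with h | h
  · refine ⟨1, ![Be, pe, qe], fun x => ?_⟩
    have hpair : ∀ s : F, A (fun r => s * (x 1 r.1 * x 2 r.2)) = fun r => s * (pe (x 1) r.1 * qe (x 2) r.2) :=
      fun s => by
        rw [← hLv]
        funext r
        simp only [Matrix.mulVec, dotProduct, h, Fintype.sum_prod_type, Fin.sum_univ_two, pe, qe,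
          Forms.glEquiv_apply]
        ring
    rw [hA]
    refine Prod.ext (funext fun r => ?_) (funext fun r => ?_) <;>
      simp [ten, hpair, hBe] <;> ring
  · refine ⟨Equiv.swap 1 2, ![Be, pe, qe], fun x => ?_⟩
    have hpair : ∀ s : F, A (fun r => s * (x 1 r.1 * x 2 r.2)) = fun r => s * (pe (x 2) r.1 * qe (x 1) r.2) :=
      fun s => by
        rw [← hLv]
        funext r
        simp only [Matrix.mulVec, dotProduct, h, Fintype.sum_prod_type, Fin.sum_univ_two, pe, qe,
          Forms.glEquiv_apply]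
        ring
    rw [hA]
    refine Prod.ext (funext fun r => ?_) (funext fun r => ?_) <;>
      simp [ten, hpair, hBe, Equiv.swap_apply_def] <;> ring

variable {M : Subgroup ((U4 F × U4 F) ≃ₗ[F] (U4 F × U4 F))}

theorem slE_mem (hN : ∀ g, Iso g → g ∈ wr F → g ∈ M) (a b c d : F) (h : a * d - b * c = 1) :
    slot0 (slE a b c d h) ∈ M :=
  hN _ (slot0_iso (slE_jf a b c d h)) ⟨_, slot0_hasPerm _⟩

/-- An element of `wr` carrying the plane to the tensors with one factor on a line. -/
theorem exists_to_line (hN : ∀ g, Iso g → g ∈ wr F → g ∈ M) (i : Fin 3) {b : V2 F} (hb : b ≠ 0) :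
    ∃ k ∈ M, k ∈ wr F ∧ ∀ x, x i ∈ F ∙ b → (k⁻¹ (ten x)).2 = 0 := by
  obtain ⟨A, hA, hAb⟩ := exists_slE_to hb
  have h0 := hN _ (slot0_iso hA) ⟨_, slot0_hasPerm A⟩
  have h01 := hN _ (s01_iso (F := F)) ⟨_, s01_hasPerm⟩
  have h12 := hN _ (s12_iso (F := F)) ⟨_, s12_hasPerm⟩
  have key : ∀ y : Fin 3 → V2 F, y 0 ∈ F ∙ b → ((slot0 A)⁻¹ (ten y)).2 = 0 := by
    intro y hy
    obtain ⟨s, hs⟩ := Submodule.mem_span_singleton.1 hy
    have e : slot0 A (ten ![s • Pi.single 0 1, y 1, y 2]) = ten y := by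
      rw [slot0_ten]
      congr 1
      funext j
      fin_cases j <;> simp [map_smul, hAb, hs]
    rw [← e, show (slot0 A)⁻¹ (slot0 A _) = _ from (slot0 A).symm_apply_apply _]
    funext p
    simp [ten]
  have i01 : ∀ x : Fin 3 → V2 F, (s01 F)⁻¹ (ten x) = ten ![x 1, x 0, x 2] := fun x => by
    rw [← s01_ten]; rfl
  have i12 : ∀ x : Fin 3 → V2 F, (s12 F)⁻¹ (ten x) = ten ![x 0, x 2, x 1] := fun x => by
    rw [← s12_ten]
    refine (s12 F).injective ((s12 F).apply_symm_apply _ |>.trans ?_)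
    rw [s12_ten, s12_ten]
    congr 1
    funext j; fin_cases j <;> rfl
  fin_cases i
  · exact ⟨slot0 A, h0, ⟨_, slot0_hasPerm A⟩, key⟩
  · refine ⟨s01 F * slot0 A, M.mul_mem h01 h0, (wr F).mul_mem ⟨_, s01_hasPerm⟩ ⟨_, slot0_hasPerm A⟩,
      fun x hx => ?_⟩
    rw [_root_.mul_inv_rev, LinearEquiv.mul_apply, i01]
    exact key _ hx
  · refine ⟨s12 F * (s01 F * slot0 A), M.mul_mem h12 (M.mul_mem h01 h0), (wr F).mul_mem ⟨_, s12_hasPerm⟩
      ((wr F).mul_mem ⟨_, s01_hasPerm⟩ ⟨_, slot0_hasPerm A⟩), fun x hx => ?_⟩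
    rw [_root_.mul_inv_rev, _root_.mul_inv_rev, LinearEquiv.mul_apply, LinearEquiv.mul_apply, i12, i01]
    exact key _ hx

theorem pair_eq (w₁ w₂ : V2 F) (g : Fin 2 → V2 F) :
    ((fun p => w₁ p.1 * g 0 p.2, fun p => w₂ p.1 * g 1 p.2) : U4 F × U4 F) =
      ten ![Pi.single 0 1, w₁, g 0] + ten ![Pi.single 1 1, w₂, g 1] := by
  refine Prod.ext (funext fun p => ?_) (funext fun p => ?_) <;> simp [ten]

/-- A totally isotropic plane lies on a line of one of the two factors. -/
theorem exists_line {R : Submodule F (U4 F)} (h2 : (2 : F) ≠ 0) (hR : ∀ x ∈ R, ∀ y ∈ R, bil F x y = 0) :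
    ∃ b : V2 F, b ≠ 0 ∧ ((∀ x ∈ R, ∃ γ : V2 F, x = fun p => b p.1 * γ p.2) ∨
      (∀ x ∈ R, ∃ γ : V2 F, x = fun p => γ p.1 * b p.2)) := by
  have hdet : ∀ x ∈ R, x (0, 0) * x (1, 1) - x (0, 1) * x (1, 0) = 0 := fun x hx => by
    have h := hR x hx x hx
    rw [bil_apply] at h
    exact (mul_eq_zero.1 (show (2 : F) * (x (0, 0) * x (1, 1) - x (0, 1) * x (1, 0)) = 0 by
      linear_combination h)).resolve_left h2
  have hrank : ∀ x : U4 F, x (0, 0) * x (1, 1) - x (0, 1) * x (1, 0) = 0 →
      ∃ b γ : V2 F, b ≠ 0 ∧ x = fun p => b p.1 * γ p.2 := by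
    intro x hx
    by_cases h0 : x (0, 0) = 0 ∧ x (0, 1) = 0
    · refine ⟨Pi.single 1 1, fun j => x (1, j), by simp, funext fun ⟨i, j⟩ => ?_⟩
      fin_cases i <;> fin_cases j <;> simp [h0.1, h0.2]
    by_cases ha : x (0, 0) = 0
    · have hb : x (0, 1) ≠ 0 := fun e => h0 ⟨ha, e⟩
      have hc : x (1, 0) = 0 :=
        (mul_eq_zero.1 (show x (0, 1) * x (1, 0) = 0 by rw [ha] at hx; linear_combination -hx)).resolve_left hb
      refine ⟨![1, x (1, 1) / x (0, 1)], fun j => x (0, j), fun e => one_ne_zero (congrFun e 0),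
        funext fun ⟨i, j⟩ => ?_⟩
      fin_cases i <;> fin_cases j <;> simp [ha, hc, div_mul_cancel₀ _ hb]
    · refine ⟨![1, x (1, 0) / x (0, 0)], fun j => x (0, j), fun e => one_ne_zero (congrFun e 0),
        funext fun ⟨i, j⟩ => ?_⟩
      fin_cases i <;> fin_cases j <;> simp [div_mul_cancel₀ _ ha]
      field_simp
      linear_combination hx
  by_cases hbot : R = ⊥
  · exact ⟨Pi.single 0 1, by simp, Or.inl fun x hx => ⟨0, by
      rw [hbot, Submodule.mem_bot] at hx; rw [hx]; funext p; simp⟩⟩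
  obtain ⟨X, hX, hX0⟩ := Submodule.exists_mem_ne_zero_of_ne_bot hbot
  obtain ⟨b, γ, hb, hXe⟩ := hrank X (hdet X hX)
  have hγ : γ ≠ 0 := fun e => hX0 (by rw [hXe, e]; funext p; simp)
  let P₁ : Submodule F (U4 F) :=
    LinearMap.range ({ toFun := fun g p => b p.1 * g p.2
                       map_add' := fun g g' => funext fun p => mul_add _ _ _
                       map_smul' := fun t g => funext fun p => by simp [mul_left_comm] } : V2 F →ₗ[F] U4 F)
  let P₂ : Submodule F (U4 F) :=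
    LinearMap.range ({ toFun := fun g p => g p.1 * γ p.2
                       map_add' := fun g g' => funext fun p => add_mul _ _ _
                       map_smul' := fun t g => funext fun p => by simp [mul_assoc] } : V2 F →ₗ[F] U4 F)
  have hsub : ∀ Y ∈ R, Y ∈ P₁ ∨ Y ∈ P₂ := by
    intro Y hY
    obtain ⟨b', γ', hb', hYe⟩ := hrank Y (hdet Y hY)
    have h := hR X hX Y hY
    rw [bil_apply, hXe, hYe] at h
    have hprod : jf b b' * jf γ γ' = 0 := by simp only [jf]; linear_combination h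
    have hpar : ∀ {u v : V2 F}, u ≠ 0 → jf u v = 0 → ∃ t : F, v = t • u := by
      intro u v hu huv
      simp only [jf] at huv
      by_cases h0 : u 0 = 0
      · have h1 : u 1 ≠ 0 := fun e => hu (funext fun i => by fin_cases i <;> assumption)
        refine ⟨v 1 / u 1, funext fun i => ?_⟩
        fin_cases i <;> simp [h0, div_mul_cancel₀ _ h1]
        rw [h0, zero_mul, zero_sub, neg_eq_zero] at huv
        exact (mul_eq_zero.1 huv).resolve_left h1
      · refine ⟨v 0 / u 0, funext fun i => ?_⟩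
        fin_cases i <;> simp [div_mul_cancel₀ _ h0]
        field_simp
        linear_combination huv
    rcases mul_eq_zero.1 hprod with e | e
    · obtain ⟨t, rfl⟩ := hpar hb e
      exact Or.inl ⟨t • γ', by rw [hYe]; funext p; simp; ring⟩
    · obtain ⟨t, rfl⟩ := hpar hγ e
      exact Or.inr ⟨t • b', by rw [hYe]; funext p; simp; ring⟩
  by_cases h1 : R ≤ P₁
  · exact ⟨b, hb, Or.inl fun x hx => (h1 hx).imp fun g hg => hg.symm⟩
  refine ⟨γ, hγ, Or.inr fun x hx => ?_⟩
  obtain ⟨y, hy, hy1⟩ := SetLike.not_le_iff_exists.1 h1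
  have hy2 := (hsub y hy).resolve_left hy1
  have hxP : x ∈ P₂ := by
    rcases hsub x hx with e | e
    · rcases hsub (x + y) (R.add_mem hx hy) with e' | e'
      · exact absurd ((P₁.add_mem_iff_right e).1 e') hy1
      · exact (P₂.add_mem_iff_left hy2).1 e'
    · exact e
  exact hxP.imp fun g hg => hg.symm

end Cfsg.Agent.Lib.SpTensorCube
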